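import Mathlib.CategoryTheory.Localization.CalculusOfFractions

/-!
# A criterion for localization functors with a right calculus of fractions
-/

set_option autoImplicit false
set_option linter.style.haveILetI false

universe v₁ v₂ u₁ u₂

open CategoryTheory

namespace Groth.Agent.LocCrit19

variable {C : Type u₁} [Category.{v₁} C] {D : Type u₂} [Category.{v₂} D] (L : C ⥤ D) (W : MorphismProperty C)

/-- A functor inverting `W`, essentially surjective, whose morphisms are right fractions and whose
equalities come from `W`, is a localization functor. -/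
theorem isLocalization [W.HasRightCalculusOfFractions] [L.EssSurj] (hW : W.IsInvertedBy L)
    (hfull : ∀ {X Y : C} (g : L.obj X ⟶ L.obj Y),
      ∃ (X' : C) (s : X' ⟶ X) (_ : W s) (f : X' ⟶ Y), L.map s ≫ g = L.map f)
    (hfaith : ∀ {X Y : C} (f₁ f₂ : X ⟶ Y), L.map f₁ = L.map f₂ →
      ∃ (X' : C) (t : X' ⟶ X) (_ : W t), t ≫ f₁ = t ≫ f₂) :
    L.IsLocalization W := by
  let F : W.Localization ⥤ D := Localization.Construction.lift L hW
  have hmap : ∀ {X Y : C} (f : X ⟶ Y), F.map (W.Q.map f) = L.map f := by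
    intro X Y f
    have := Functor.congr_hom (Localization.Construction.fac L hW) f
    exact this.trans ((Category.id_comp _).trans (Category.comp_id _))
  haveI : F.EssSurj := ⟨fun d => ⟨W.Q.obj (L.objPreimage d), ⟨L.objObjPreimageIso d⟩⟩⟩
  haveI : F.Full := ⟨fun {P Q} g => by
    obtain ⟨X, rfl⟩ : ∃ X, W.Q.obj X = P := ⟨(Localization.Construction.objEquiv W).symm P,
      (Localization.Construction.objEquiv W).apply_symm_apply P⟩
    obtain ⟨Y, rfl⟩ : ∃ Y, W.Q.obj Y = Q := ⟨(Localization.Construction.objEquiv W).symm Q,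
      (Localization.Construction.objEquiv W).apply_symm_apply Q⟩
    obtain ⟨X', s, hs, f, e⟩ := hfull (X := X) (Y := Y) g
    haveI : IsIso (W.Q.map s) := Localization.inverts W.Q W s hs
    haveI : IsIso (L.map s) := hW s hs
    refine ⟨inv (W.Q.map s) ≫ W.Q.map f, ?_⟩
    rw [← cancel_epi (F.map (W.Q.map s)), ← F.map_comp, IsIso.hom_inv_id_assoc, hmap, hmap]
    exact e.symm⟩
  haveI : F.Faithful := ⟨fun {P Q} p q hpq => by
    obtain ⟨X, rfl⟩ : ∃ X, W.Q.obj X = P := ⟨(Localization.Construction.objEquiv W).symm P,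
      (Localization.Construction.objEquiv W).apply_symm_apply P⟩
    obtain ⟨Y, rfl⟩ : ∃ Y, W.Q.obj Y = Q := ⟨(Localization.Construction.objEquiv W).symm Q,
      (Localization.Construction.objEquiv W).apply_symm_apply Q⟩
    obtain ⟨φ, rfl⟩ := Localization.exists_rightFraction W.Q W p
    obtain ⟨ψ, rfl⟩ := Localization.exists_rightFraction W.Q W q
    obtain ⟨χ, hχ⟩ := (MorphismProperty.LeftFraction.mk (W := W) ψ.s φ.s φ.hs).exists_rightFraction
    dsimp at hχ
    haveI := Localization.inverts W.Q W φ.s φ.hs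
    haveI := Localization.inverts W.Q W ψ.s ψ.hs
    haveI := Localization.inverts W.Q W χ.s χ.hs
    have h1 : W.Q.map φ.s ≫ φ.map W.Q (Localization.inverts W.Q W) = W.Q.map φ.f :=
      φ.map_s_comp_map _ _
    have h2 : W.Q.map ψ.s ≫ ψ.map W.Q (Localization.inverts W.Q W) = W.Q.map ψ.f :=
      ψ.map_s_comp_map _ _
    have h3 := congrArg (fun m => F.map (W.Q.map (χ.f ≫ φ.s)) ≫ m) hpq
    simp only [← F.map_comp] at h3
    rw [W.Q.map_comp, Category.assoc, h1] at h3
    rw [← W.Q.map_comp, hmap] at h3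
    rw [← W.Q.map_comp, ← hχ, W.Q.map_comp, Category.assoc, h2, ← W.Q.map_comp, hmap] at h3
    obtain ⟨Z, t, ht, e⟩ := hfaith _ _ h3
    haveI := Localization.inverts W.Q W t ht
    haveI : IsIso (W.Q.map (t ≫ χ.f ≫ φ.s)) := by
      rw [← hχ]
      simp only [Functor.map_comp]
      infer_instance
    rw [← cancel_epi (W.Q.map (t ≫ χ.f ≫ φ.s))]
    conv_rhs => rw [← hχ]
    simp only [Functor.map_comp, Category.assoc, h1, h2]
    simp only [← Functor.map_comp]
    exact congrArg W.Q.map e⟩
  haveI : F.IsEquivalence := { }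
  exact Functor.IsLocalization.of_equivalence_target W.Q W L F.asEquivalence
    (eqToIso (Localization.Construction.fac L hW))

end Groth.Agent.LocCrit19
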